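import Groth.Agent.HomDesc.BaseChange
import Groth.Agent.MultType.Connected
import Groth.Agent.FixedSmooth.Props
import Groth.Agent.FpqcDesc.Basic
/-!
Affine groups of schemes and Hopf algebras, over a field and after an extension.
-/

set_option autoImplicit false
set_option backward.isDefEq.respectTransparency false
set_option backward.isDefEq.respectTransparency.types false
set_option linter.style.haveILetI false
set_option linter.unusedSectionVars false

universe u

open CategoryTheory CategoryTheory.Limits MonoidalCategory CartesianMonoidalCategory MonObj GrpObj AlgebraicGeometry TensorProduct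
open scoped TensorProduct

noncomputable section

namespace Groth.Agent.TorusField

/-- Spec of a Hopf algebra, as a group. -/
abbrev specGrp (R : Type u) [CommRing R] (A : Type u) [CommRing A] [HopfAlgebra R A] :
    Grp (Over (Spec (CommRingCat.of R))) :=
  Grp.mk ((Spec (CommRingCat.of A)).asOver (Spec (CommRingCat.of R)))

/-- Base change of an isomorphism of groups. -/
def bcMapIso {S S' : Scheme.{u}} (f : S' ⟶ S) {G H : Over S} [GrpObj G] [GrpObj H] (e : Grp.mk G ≅ Grp.mk H) :
    Grp.mk (Red.bc f G) ≅ Grp.mk (Red.bc f H) :=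
  (Over.pullback f).mapGrp.mapIso e

/-- Base change of Spec of a Hopf algebra. -/
def bcSpecIso (K : Type u) [CommRing K] (T : Type u) [CommRing T] (A : Type u) [CommRing A] [Algebra K T]
    [HopfAlgebra K A] :
    Grp.mk (Red.bc (Spec.map (CommRingCat.ofHom (algebraMap K T)))
      ((Spec (CommRingCat.of A)).asOver (Spec (CommRingCat.of K)))) ≅ specGrp T (T ⊗[K] A) := by
  let g : Red.bc (Spec.map (CommRingCat.ofHom (algebraMap K T))) ((Spec (CommRingCat.of A)).asOver (Spec (CommRingCat.of K))) ≅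
      (Spec (CommRingCat.of (T ⊗[K] A))).asOver (Spec (CommRingCat.of T)) :=
    Over.isoMk (pullbackSymmetry _ _ ≪≫ pullbackSpecIso' K T A)
      (Over.w ((pullbackSymmetry _ _ ≪≫ pullbackSpecIso' K T A).hom.asOver (Spec (CommRingCat.of T))))
  haveI : IsMonHom g.hom :=
    inferInstanceAs (IsMonHom ((pullbackSymmetry _ _ ≪≫ pullbackSpecIso' K T A).hom.asOver (Spec (CommRingCat.of T))))
  exact Grp.mkIso' g

/-- The isomorphism of Spec of a bialgebra equivalence. -/
def specIso {R : Type u} [CommRing R] {A B : Type u} [CommRing A] [HopfAlgebra R A] [CommRing B] [HopfAlgebra R B]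
    (e : A ≃ₐc[R] B) : specGrp R B ≅ specGrp R A :=
  (hopfSpec (CommRingCat.of R)).mapIso (CommHopfAlgCat.isoMk e).op

/-- An isomorphism of affine groups comes from a bialgebra equivalence. -/
theorem nonempty_bialgEquiv {R : Type u} [CommRing R] {A B : Type u} [CommRing A] [HopfAlgebra R A] [CommRing B]
    [HopfAlgebra R B] (e : specGrp R B ≅ specGrp R A) : Nonempty (A ≃ₐc[R] B) := by
  let i : Opposite.op (CommHopfAlgCat.of R B) ≅ Opposite.op (CommHopfAlgCat.of R A) :=
    (hopfSpec.fullyFaithful (R := CommRingCat.of R)).preimageIso e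
  exact ⟨CommHopfAlgCat.ofIso i.unop⟩

/-- The homomorphism of groups of a bialgebra homomorphism. -/
def specHom {R : Type u} [CommRing R] {A B : Type u} [CommRing A] [HopfAlgebra R A] [CommRing B] [HopfAlgebra R B]
    (φ : A →ₐc[R] B) : specGrp R B ⟶ specGrp R A :=
  (hopfSpec (CommRingCat.of R)).map (CommHopfAlgCat.ofHom φ).op

/-- `D_S(M)` over an affine base is `Spec` of the group algebra. -/
def dsIso (K : Type u) [CommRing K] (M : Type) [AddCommGroup M] :
    Grp.mk (Red.DS (Spec (CommRingCat.of K)) M) ≅ specGrp K (MonoidAlgebra K (Multiplicative M)) :=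
  letI : Algebra (ULift.{u} ℤ) K :=
    ((Int.castRingHom K).comp (ULift.ringEquiv : ULift.{u} ℤ ≃+* ℤ).toRingHom).toAlgebra
  eqToIso (congrArg (fun f => Grp.mk (Red.bc f (Red.diag (ULift.{u} ℤ) M)))
      (specULiftZIsTerminal.hom_ext _ (Spec.map (CommRingCat.ofHom (algebraMap (ULift.{u} ℤ) K))))) ≪≫
    bcSpecIso (ULift.{u} ℤ) K (MonoidAlgebra (ULift.{u} ℤ) (Multiplicative M)) ≪≫
    specIso (MultType.scalarEquiv K
      (BialgEquiv.refl (ULift.{u} ℤ) (MonoidAlgebra (ULift.{u} ℤ) (Multiplicative M)))).symm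

variable (K : Type u) [Field K]

/-- A group which is split over a field extension is affine. -/
theorem isAffine_of_split (T : Over (Spec (CommRingCat.of K))) [GrpObj T] {L : Type u} [Field L] [Algebra K L]
    {M : Type} [AddCommGroup M]
    (h : Red.IsSplitTorusWith M (Red.bc (Spec.map (CommRingCat.ofHom (algebraMap K L))) T)) : IsAffine T.left := by
  obtain ⟨e⟩ := h
  let f := Spec.map (CommRingCat.ofHom (algebraMap K L))
  have h1 : IsAffineHom (Red.bc f T).hom :=
    @FixedSmooth.hom_of_grpIso _ _ _ _ _ e @IsAffineHom _ (FixedSmooth.isAffineHom_DS (Spec (CommRingCat.of L)) M)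
  haveI : Surjective f := ⟨fun x => ⟨IsLocalRing.closedPoint L, Subsingleton.elim (α := PrimeSpectrum K) _ _⟩⟩
  haveI : Flat f := by
    rw [HasRingHomProperty.Spec_iff (P := @Flat)]
    exact RingHom.flat_algebraMap_iff.2 inferInstance
  haveI := FpqcDesc.isAffineHom_descends.{u}
  haveI : IsAffineHom T.hom :=
    MorphismProperty.of_pullback_snd_of_descendsAlong (P := @IsAffineHom)
      (Q := (@Surjective ⊓ @Flat ⊓ @QuasiCompact : MorphismProperty Scheme.{u})) ⟨⟨inferInstance, inferInstance⟩, inferInstance⟩ h1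
  exact isAffine_of_isAffineHom T.hom

/-- An affine group is Spec of a Hopf algebra. -/
theorem exists_hopf (T : Over (Spec (CommRingCat.of K))) [GrpObj T] [IsAffine T.left] :
    ∃ (A : Type u) (_ : CommRing A) (_ : HopfAlgebra K A), Nonempty (specGrp K A ≅ Grp.mk T) := by
  obtain ⟨H, ⟨e⟩⟩ := (essImage_hopfSpec (R := CommRingCat.of K) (G := Grp.mk T)).2 (inferInstanceAs (IsAffine T.left))
  exact ⟨H.unop, inferInstance, inferInstance, ⟨e⟩⟩

/-- A group split over an extension, in terms of Hopf algebras. -/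
theorem exists_hopf_split (T : Over (Spec (CommRingCat.of K))) [GrpObj T] {L : Type u} [Field L] [Algebra K L]
    {M : Type} [AddCommGroup M]
    (h : Red.IsSplitTorusWith M (Red.bc (Spec.map (CommRingCat.ofHom (algebraMap K L))) T)) :
    ∃ (A : Type u) (_ : CommRing A) (_ : HopfAlgebra K A), Nonempty (specGrp K A ≅ Grp.mk T) ∧
      Nonempty (L ⊗[K] A ≃ₐc[L] MonoidAlgebra L (Multiplicative M)) := by
  haveI := isAffine_of_split K T h
  obtain ⟨A, _, _, ⟨e⟩⟩ := exists_hopf K T
  obtain ⟨eT⟩ := h
  exact ⟨A, inferInstance, inferInstance, ⟨e⟩,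
    nonempty_bialgEquiv ((dsIso L M).symm ≪≫ eT.symm ≪≫ bcMapIso _ e.symm ≪≫ bcSpecIso K L A)⟩

/-- Rational points of an affine group. -/
def pointsEquiv {T : Over (Spec (CommRingCat.of K))} [GrpObj T] {A : Type u} [CommRing A] [HopfAlgebra K A]
    (e : specGrp K A ≅ Grp.mk T) : WithConv (A →ₐ[K] K) ≃* (𝟙_ (Over (Spec (CommRingCat.of K))) ⟶ T) :=
  (Spec.mapMulEquiv (R := K) (S := A) (T := K)).trans
    ((FixedSmooth.precompEquiv (G := (specGrp K A).X)
      (Over.isoMk (Iso.refl _) (by
        show 𝟙 _ ≫ Spec.map (CommRingCat.ofHom (algebraMap K K)) = 𝟙 _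
        rw [Category.id_comp, Algebra.algebraMap_self]
        exact Spec.map_id _) :
        𝟙_ (Over (Spec (CommRingCat.of K))) ≅ (Spec (CommRingCat.of K)).asOver (Spec (CommRingCat.of K)))).trans
      (FixedSmooth.grpEquiv e _))

/-- A surjective bialgebra homomorphism to the Laurent polynomials gives a subgroup `𝔾ₘ`. -/
theorem exists_gm {T : Over (Spec (CommRingCat.of K))} [GrpObj T] {A : Type u} [CommRing A] [HopfAlgebra K A]
    (e : specGrp K A ≅ Grp.mk T) (φ : A →ₐc[K] MonoidAlgebra K (Multiplicative ℤ)) (hφ : Function.Surjective φ) :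
    ∃ i : Red.Gm (Spec (CommRingCat.of K)) ⟶ T, IsMonHom i ∧ Mono i := by
  let f := (dsIso K ℤ).hom ≫ specHom φ ≫ e.hom
  refine ⟨f.hom.hom, f.hom.isMonHom_hom, ?_⟩
  haveI : Mono (specHom φ).hom.hom := by
    have : IsClosedImmersion (Spec.map (CommRingCat.ofHom (φ : A →ₐ[K] MonoidAlgebra K (Multiplicative ℤ)).toRingHom)) :=
      IsClosedImmersion.spec_of_surjective _ hφ
    refine (Over.forget _).mono_of_mono_map ?_
    exact (inferInstance : Mono (Spec.map (CommRingCat.ofHom (φ : A →ₐ[K] MonoidAlgebra K (Multiplicative ℤ)).toRingHom)))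
  haveI : IsIso (dsIso K ℤ).hom.hom.hom := ((Grp.forget _).mapIso (dsIso K ℤ)).isIso_hom
  haveI : IsIso e.hom.hom.hom := ((Grp.forget _).mapIso e).isIso_hom
  show Mono ((dsIso K ℤ).hom.hom.hom ≫ (specHom φ).hom.hom ≫ e.hom.hom.hom)
  infer_instance

end Groth.Agent.TorusField
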