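import Groth.Agent.TorusField.Action
/-!
An invariant cocharacter of the lattice gives a homomorphism to the multiplicative group over the ground field.
-/

set_option autoImplicit false
set_option linter.style.haveILetI false
set_option linter.unusedSectionVars false

universe u

open TensorProduct WithConv MonoidAlgebra
open scoped TensorProduct

noncomputable section

namespace Groth.Agent.TorusField

variable {K : Type u} [Field K] {L : Type u} [Field L] [Algebra K L] {M : Type} [CommGroup M]

/-- Extension of coefficients. -/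
abbrev coefMap (K L : Type u) [Field K] [Field L] [Algebra K L] (M : Type) [CommGroup M] :
    MonoidAlgebra K M →ₐ[K] MonoidAlgebra L M :=
  MonoidAlgebra.mapAlgHom M (Algebra.ofId K L)

theorem coefMap_single (m : M) (r : K) : coefMap K L M (single m r) = single m (algebraMap K L r) :=
  MonoidAlgebra.mapRingHom_single (Algebra.ofId K L : K →+* L) m r

/-- Extension of coefficients on the tensor square. -/
def coefMap₂ (K L : Type u) [Field K] [Field L] [Algebra K L] (M : Type) [CommGroup M] :
    MonoidAlgebra K M ⊗[K] MonoidAlgebra K M →ₐ[K] MonoidAlgebra L M ⊗[L] MonoidAlgebra L M :=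
  Algebra.TensorProduct.lift
    ((((Algebra.TensorProduct.includeLeft : MonoidAlgebra L M →ₐ[L] MonoidAlgebra L M ⊗[L] MonoidAlgebra L M)).restrictScalars K).comp (coefMap K L M))
    ((((Algebra.TensorProduct.includeRight : MonoidAlgebra L M →ₐ[L] MonoidAlgebra L M ⊗[L] MonoidAlgebra L M)).restrictScalars K).comp (coefMap K L M))
    fun _ _ => Commute.all _ _

theorem coefMap₂_injective : Function.Injective (coefMap₂ K L M) := by
  let bK := (MonoidAlgebra.basis M K).tensorProduct (MonoidAlgebra.basis M K)
  let bL := (MonoidAlgebra.basis M L).tensorProduct (MonoidAlgebra.basis M L)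
  have h : ∀ z p, bL.repr (coefMap₂ K L M z) p = algebraMap K L (bK.repr z p) := by
    intro z p
    let f : MonoidAlgebra K M ⊗[K] MonoidAlgebra K M →ₗ[K] L :=
      ((Finsupp.lapply p).comp bL.repr.toLinearMap).restrictScalars K ∘ₗ (coefMap₂ K L M).toLinearMap
    let g : MonoidAlgebra K M ⊗[K] MonoidAlgebra K M →ₗ[K] L :=
      (Algebra.linearMap K L) ∘ₗ (Finsupp.lapply p).comp bK.repr.toLinearMap
    refine LinearMap.congr_fun (bK.ext fun q => ?_ : f = g) z
    obtain ⟨a, b⟩ := q
    show bL.repr (coefMap₂ K L M (bK (a, b))) p = algebraMap K L (bK.repr (bK (a, b)) p)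
    have e1 : coefMap₂ K L M (bK (a, b)) = bL (a, b) := by
      simp [bK, bL, coefMap₂, coefMap_single]
    rw [e1, Module.Basis.repr_self, Module.Basis.repr_self]
    classical
    rw [Finsupp.single_apply, Finsupp.single_apply]
    split_ifs <;> simp
  intro z w hzw
  refine bK.repr.injective (Finsupp.ext fun p => (algebraMap K L).injective ?_)
  rw [← h, ← h, hzw]

theorem counit_coefMap (z : MonoidAlgebra K M) :
    Coalgebra.counit (R := L) (coefMap K L M z) = algebraMap K L (Coalgebra.counit (R := K) z) := by
  induction z using MonoidAlgebra.induction_linear with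
  | zero => simp
  | add p q hp hq => simp only [map_add, hp, hq]
  | single m r => rw [coefMap_single]; simp

theorem comul_coefMap (z : MonoidAlgebra K M) :
    Coalgebra.comul (R := L) (coefMap K L M z) = coefMap₂ K L M (Coalgebra.comul (R := K) z) := by
  induction z using MonoidAlgebra.induction_linear with
  | zero => simp
  | add p q hp hq => simp only [map_add, hp, hq]
  | single m r => simp [coefMap_single, MonoidAlgebra.comul_single, coefMap₂, TensorProduct.smul_tmul']

variable {A : Type u} [CommRing A] [HopfAlgebra K A] (e : L ⊗[K] A ≃ₐc[L] MonoidAlgebra L M)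

/-- An invariant surjection of the characters to `ℤ` gives a subgroup `𝔾ₘ`. -/
theorem exists_cochar [FiniteDimensional K L] [IsGalois K L] (v : M →* Multiplicative ℤ) (hv : Function.Surjective v)
    (hinv : ∀ (σ : L ≃ₐ[K] L) m, v (act e σ m) = v m) :
    ∃ φ : A →ₐc[K] MonoidAlgebra K (Multiplicative ℤ), Function.Surjective φ := by
  classical
  let F : L ⊗[K] A →ₐc[L] MonoidAlgebra L (Multiplicative ℤ) :=
    (MonoidAlgebra.mapDomainBialgHom L v).comp (e : L ⊗[K] A →ₐc[L] MonoidAlgebra L M)
  have hFγ : ∀ m, F (γ' e m) = single (v m) 1 := fun m => by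
    show MonoidAlgebra.mapDomainBialgHom L v (e (γ' e m)) = _
    rw [e_γ', MonoidAlgebra.mapDomainBialgHom_single]
  let j := coefMap K L (Multiplicative ℤ)
  have hj : Function.Injective j := fun a b hab =>
    MonoidAlgebra.ext (Finsupp.ext fun m => (algebraMap K L).injective (by
      have := congrArg (fun z : MonoidAlgebra L (Multiplicative ℤ) => z.coeff m) hab
      exact (coeff_mapRingHom (Algebra.ofId K L : K →+* L) a m).symm.trans
        (this.trans (coeff_mapRingHom (Algebra.ofId K L : K →+* L) b m))))
  -- equivariance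
  have hsemi : ∀ (σ : L ≃ₐ[K] L) z, MonoidAlgebra.mapAlgHom (Multiplicative ℤ) σ.toAlgHom (F z) = F (conj σ z) := by
    intro σ z
    induction z using induction_γ' e with
    | h0 => simp
    | hadd a b ha hb => simp only [map_add, ha, hb]
    | hγ l m =>
      rw [conj_smul, conj_γ', show F (l • γ' e m) = single (v m) l by
          rw [map_smul, hFγ, MonoidAlgebra.smul_single', mul_one],
        show F (σ l • γ' e (act e σ m)) = single (v m) (σ l) by
          rw [map_smul, hFγ, hinv, MonoidAlgebra.smul_single', mul_one]]
      exact MonoidAlgebra.mapRingHom_single (σ.toAlgHom : L →+* L) _ _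
  let P : A →ₐ[K] MonoidAlgebra L (Multiplicative ℤ) :=
    ((F : L ⊗[K] A →ₐ[L] MonoidAlgebra L (Multiplicative ℤ)).restrictScalars K).comp Algebra.TensorProduct.includeRight
  have hP : ∀ a, P a ∈ j.range := by
    intro a
    have hc : ∀ m, (P a).coeff m ∈ Set.range (algebraMap K L) := fun m => by
      rw [← IntermediateField.mem_bot, IsGalois.mem_bot_iff_fixed]
      intro σ
      have h := congrArg (fun z : MonoidAlgebra L (Multiplicative ℤ) => z.coeff m) (hsemi σ ((1 : L) ⊗ₜ a))
      refine ((coeff_mapRingHom (σ.toAlgHom : L →+* L) _ m).symm.trans h).trans ?_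
      simp [conj, P]
    choose c hc using hc
    refine ⟨∑ m ∈ (P a).coeff.support, single m (c m), ?_⟩
    rw [map_sum]
    refine Eq.trans (Finset.sum_congr rfl fun m _ => ?_) (MonoidAlgebra.sum_single (P a))
    exact (coefMap_single m (c m)).trans (by rw [hc])
  let P₀ : A →ₐ[K] MonoidAlgebra K (Multiplicative ℤ) :=
    (AlgEquiv.ofInjective j hj).symm.toAlgHom.comp (P.codRestrict j.range hP)
  have hP₀ : ∀ a, j (P₀ a) = F ((1 : L) ⊗ₜ a) := fun a =>
    congrArg Subtype.val ((AlgEquiv.ofInjective j hj).apply_symm_apply (P.codRestrict j.range hP a))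
  let φ : A →ₐc[K] MonoidAlgebra K (Multiplicative ℤ) :=
    BialgHom.ofAlgHom P₀
      (AlgHom.ext fun a => (algebraMap K L).injective (by
        show algebraMap K L (Coalgebra.counit (R := K) (P₀ a)) = algebraMap K L (Coalgebra.counit (R := K) a)
        rw [← counit_coefMap, hP₀, CoalgHomClass.counit_comp_apply, TensorProduct.counit_tmul,
          CommSemiring.counit_apply, Algebra.algebraMap_eq_smul_one]))
      (AlgHom.ext fun a => coefMap₂_injective (K := K) (L := L) (by
        show coefMap₂ K L _ (Algebra.TensorProduct.map P₀ P₀ (Coalgebra.comul (R := K) a)) =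
          coefMap₂ K L _ (Coalgebra.comul (R := K) (P₀ a))
        rw [← comul_coefMap, hP₀, ← CoalgHomClass.map_comp_comul_apply F, TensorProduct.comul_tmul,
          CommSemiring.comul_apply]
        induction Coalgebra.comul (R := K) a with
        | zero => simp
        | add p q hp hq => simp only [map_add, TensorProduct.tmul_add, hp, hq]
        | tmul p q => simp [coefMap₂, show ∀ a, coefMap K L (Multiplicative ℤ) (P₀ a) = F ((1 : L) ⊗ₜ a) from hP₀]))
  refine ⟨φ, ?_⟩
  let V : Submodule K (MonoidAlgebra K (Multiplicative ℤ)) := LinearMap.range P₀.toLinearMap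
  suffices h : ∀ n, single n (1 : K) ∈ V by
    intro z
    induction z using MonoidAlgebra.induction_linear with
    | zero => exact ⟨0, map_zero φ⟩
    | add p q hp hq =>
      obtain ⟨a, ha⟩ := hp
      obtain ⟨b, hb⟩ := hq
      exact ⟨a + b, by rw [map_add, ha, hb]⟩
    | single n r =>
      obtain ⟨a, ha⟩ := h n
      refine ⟨r • a, ?_⟩
      rw [map_smul, show φ a = single n 1 from ha]
      simp
  intro n
  by_contra hn
  obtain ⟨f, hfn, hfV⟩ : ∃ f : MonoidAlgebra K (Multiplicative ℤ) →ₗ[K] K, f (single n 1) ≠ 0 ∧ V ≤ LinearMap.ker f :=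
    Submodule.exists_dual_map_eq_bot_of_notMem hn inferInstance |>.imp fun f h => ⟨h.1, LinearMap.le_ker_iff_map.2 h.2⟩
  let fL : MonoidAlgebra L (Multiplicative ℤ) →ₗ[L] L :=
    (MonoidAlgebra.basis (Multiplicative ℤ) L).constr L fun m => algebraMap K L (f (single m 1))
  have hfL : ∀ z, fL (j z) = algebraMap K L (f z) := by
    intro z
    induction z using MonoidAlgebra.induction_linear with
    | zero => simp
    | add p q hp hq => simp only [map_add, hp, hq]
    | single m r =>
      rw [show j (single m r) = algebraMap K L r • MonoidAlgebra.basis (Multiplicative ℤ) L m by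
        simp [j, coefMap_single, Algebra.smul_def], map_smul, Module.Basis.constr_basis,
        show (single m r : MonoidAlgebra K (Multiplicative ℤ)) = r • single m 1 by simp, map_smul, smul_eq_mul,
        smul_eq_mul, map_mul]
  have h0 : ∀ z, fL (F z) = 0 := by
    intro z
    induction z with
    | zero => simp
    | add a b ha hb => simp only [map_add, ha, hb, add_zero]
    | tmul l a =>
      rw [show l ⊗ₜ[K] a = l • ((1 : L) ⊗ₜ[K] a) by simp [TensorProduct.smul_tmul'], map_smul, ← hP₀, map_smul, hfL,
        show f (P₀ a) = 0 from hfV ⟨a, rfl⟩, map_zero, smul_zero]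
  obtain ⟨m, hm⟩ := hv n
  have h1 := h0 (γ' e m)
  rw [hFγ, hm, show (single n 1 : MonoidAlgebra L (Multiplicative ℤ)) = MonoidAlgebra.basis (Multiplicative ℤ) L n by simp,
    Module.Basis.constr_basis, map_eq_zero] at h1
  exact hfn h1

end Groth.Agent.TorusField
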