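import Groth.Agent.MultType.Field
import Groth.Agent.MultType.Connected
import Groth.Agent.MultType.Cover
/-!
A torus over a field is split by a finite Galois extension.
-/

set_option autoImplicit false
set_option linter.style.haveILetI false
set_option linter.unusedSectionVars false

universe u

open TensorProduct SGA3b
open scoped TensorProduct

noncomputable section

namespace Groth.Agent.TorusField

/-- Descent of the splitting to a finite Galois extension. -/
theorem exists_galois_split {K : Type u} [Field K] {L : Type u} [Field L] [Algebra K L] {A : Type u} [CommRing A]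
    [HopfAlgebra K A] {n : ℕ} (e : L ⊗[K] A ≃ₐc[L] MonoidAlgebra L (Multiplicative (Fin n → ℤ))) :
    ∃ (L' : Type u) (_ : Field L') (_ : Algebra K L'), FiniteDimensional K L' ∧ IsGalois K L' ∧
      Nonempty (L' ⊗[K] A ≃ₐc[L'] MonoidAlgebra L' (Multiplicative (Fin n → ℤ))) := by
  have hft : Algebra.FiniteType K A := by
    haveI : Algebra.FiniteType L (L ⊗[K] A) :=
      (inferInstance : Algebra.FiniteType L (MonoidAlgebra L (Multiplicative (Fin n → ℤ)))).equiv
        (e : L ⊗[K] A ≃ₐ[L] MonoidAlgebra L (Multiplicative (Fin n → ℤ))).symm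
    exact Algebra.FiniteType.of_finiteType_tensorProduct_of_faithfullyFlat L
  have hd : IsDiag L (L ⊗[K] A) :=
    ⟨ULift.{u} (Multiplicative (Fin n → ℤ)), inferInstance,
      ⟨e.trans (MonoidAlgebra.domCongrBialgEquiv L L MulEquiv.ulift.symm)⟩⟩
  obtain ⟨k', _, _, _, _, N, _, -, ⟨ek⟩⟩ := MultType.exists_separable_split hft (MultType.isMultType_of_ff L hd)
  let F := SeparableClosure K
  let f : k' →ₐ[K] F := IsSepClosed.lift
  letI : Algebra k' F := f.toRingHom.toAlgebra
  haveI : IsScalarTower K k' F := IsScalarTower.of_algebraMap_eq fun r => (f.commutes r).symm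
  obtain ⟨L', _, _, _, _, fk⟩ : ∃ (L' : Type u) (_ : Field L') (_ : Algebra K L') (_ : FiniteDimensional K L') (_ : IsGalois K L'),
      Nonempty (k' →ₐ[K] L') :=
    ⟨IntermediateField.normalClosure K k' F, inferInstance, inferInstance, inferInstance, inferInstance,
      ⟨IsScalarTower.toAlgHom K k' (IntermediateField.normalClosure K k' F)⟩⟩
  obtain ⟨fk⟩ := fk
  obtain ⟨N', _, ⟨e'⟩⟩ := MultType.isDiag_of_algHom (A := A)
    fk ⟨N, inferInstance, ⟨ek⟩⟩
  haveI : Nontrivial (L ⊗[K] L') :=
    (Algebra.TensorProduct.includeRight_injective (R := K) (A := L) (B := L')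
      (algebraMap K L).injective).nontrivial
  obtain ⟨P, hP⟩ := Ideal.exists_maximal (L ⊗[K] L')
  letI : Field ((L ⊗[K] L') ⧸ P) := Ideal.Quotient.field P
  let Ω := (L ⊗[K] L') ⧸ P
  let f₂ : L' →ₐ[K] Ω := (Ideal.Quotient.mkₐ K P).comp Algebra.TensorProduct.includeRight
  letI : Algebra L' Ω := f₂.toRingHom.toAlgebra
  haveI : IsScalarTower K L' Ω := IsScalarTower.of_algebraMap_eq fun r => (f₂.commutes r).symm
  have i₁ := (MultType.cbc (R := K) (A := A) L Ω).symm.trans (MultType.scalarEquiv Ω e)
  have i₂ := (MultType.cbc (R := K) (A := A) L' Ω).symm.trans (MultType.scalarEquiv Ω e')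
  obtain ⟨θ⟩ := MultType.nonempty_mulEquiv (i₂.symm.trans i₁)
  exact ⟨L', inferInstance, inferInstance, inferInstance, inferInstance,
    ⟨e'.trans (MonoidAlgebra.domCongrBialgEquiv L' L' θ)⟩⟩

end Groth.Agent.TorusField
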