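import Mathlib
/-!
Finite groups of automorphisms of a lattice and their invariant characters.
-/

set_option autoImplicit false
set_option linter.unusedSectionVars false

universe u

open Matrix

noncomputable section

namespace Groth.Agent.TorusField

variable {n : ℕ}

/-- The lattice. -/
abbrev Lat (n : ℕ) : Type := Multiplicative (Fin n → ℤ)

/-- The linear map of an automorphism of the lattice. -/
def linAut (σ : MulAut (Lat n)) : (Fin n → ℤ) →ₗ[ℤ] (Fin n → ℤ) :=
  ((AddMonoidHom.toMultiplicative.symm : (Lat n →* Multiplicative (Fin n → ℤ)) ≃ ((Fin n → ℤ) →+ (Fin n → ℤ))) (σ : Lat n →* Multiplicative (Fin n → ℤ))).toIntLinearMap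

theorem linAut_apply (σ : MulAut (Lat n)) (a : Fin n → ℤ) :
    linAut σ a = Multiplicative.toAdd (σ (Multiplicative.ofAdd a)) := rfl

/-- The matrix of an automorphism of the lattice. -/
def matHom (n : ℕ) : MulAut (Lat n) →* GL (Fin n) ℤ :=
  MonoidHom.toHomUnits
    { toFun := fun σ => LinearMap.toMatrix' (linAut σ)
      map_one' := by
        rw [show linAut (1 : MulAut (Lat n)) = LinearMap.id from LinearMap.ext fun a => rfl, LinearMap.toMatrix'_id]
      map_mul' := fun σ τ => by
        rw [show linAut (σ * τ) = linAut σ ∘ₗ linAut τ from LinearMap.ext fun a => rfl, LinearMap.toMatrix'_comp] }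

theorem coe_matHom (σ : MulAut (Lat n)) : (matHom n σ : Matrix (Fin n) (Fin n) ℤ) = LinearMap.toMatrix' (linAut σ) :=
  rfl

theorem matHom_mulVec (σ : MulAut (Lat n)) (a : Fin n → ℤ) :
    (matHom n σ : Matrix (Fin n) (Fin n) ℤ) *ᵥ a = Multiplicative.toAdd (σ (Multiplicative.ofAdd a)) := by
  rw [coe_matHom, LinearMap.toMatrix'_mulVec, linAut_apply]

theorem matHom_injective : Function.Injective (matHom n) := fun σ τ h => MulEquiv.ext fun a => by
  have h2 := congrArg (fun g : GL (Fin n) ℤ => (g : Matrix (Fin n) (Fin n) ℤ) *ᵥ Multiplicative.toAdd a) h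
  simp only [matHom_mulVec, ofAdd_toAdd] at h2
  exact Multiplicative.toAdd.injective h2

variable (G : Subgroup (MulAut (Lat n))) [Fintype G]

/-- The sum of the translates of a functional. -/
def avg (v : Lat n →* Multiplicative ℤ) : Lat n →* Multiplicative ℤ :=
  ∏ g : G, v.comp ((g : MulAut (Lat n)) : Lat n →* Lat n)

theorem avg_apply (v : Lat n →* Multiplicative ℤ) (m : Lat n) :
    avg G v m = ∏ g : G, v ((g : MulAut (Lat n)) m) := by
  simp [avg]

theorem avg_invariant (v : Lat n →* Multiplicative ℤ) (g : G) (m : Lat n) :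
    avg G v ((g : MulAut (Lat n)) m) = avg G v m := by
  rw [avg_apply, avg_apply]
  exact Fintype.prod_equiv (Equiv.mulRight g) _ _ fun x => rfl

/-- A nontrivial invariant functional gives a surjective one. -/
theorem exists_surjective_invariant (w : Lat n →* Multiplicative ℤ) (hw : w ≠ 1)
    (hinv : ∀ (g : G) m, w ((g : MulAut (Lat n)) m) = w m) :
    ∃ v : Lat n →* Multiplicative ℤ, Function.Surjective v ∧ ∀ (g : G) m, v ((g : MulAut (Lat n)) m) = v m := by
  let w' : (Fin n → ℤ) →+ ℤ := AddMonoidHom.toMultiplicative.symm w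
  have hw' : ∀ m, Multiplicative.toAdd (w m) = w' (Multiplicative.toAdd m) := fun m => rfl
  obtain ⟨c, hc⟩ := Int.subgroup_cyclic w'.range
  have hmem : ∀ a, c ∣ w' a := fun a => Int.mem_zmultiples_iff.1 (by
    rw [AddSubgroup.zmultiples_eq_closure, ← hc]; exact ⟨a, rfl⟩)
  have hc0 : c ≠ 0 := by
    rintro rfl
    exact hw (MonoidHom.ext fun m => Multiplicative.toAdd.injective (zero_dvd_iff.1 (hmem (Multiplicative.toAdd m))))
  let v' : (Fin n → ℤ) →+ ℤ := AddMonoidHom.mk' (fun a => w' a / c) fun a b => by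
    rw [map_add, Int.add_ediv_of_dvd_left (hmem a)]
  refine ⟨AddMonoidHom.toMultiplicative v', fun z => ?_, fun g m => ?_⟩
  · obtain ⟨a, ha⟩ : c ∈ w'.range := by rw [hc]; exact AddSubgroup.subset_closure rfl
    refine ⟨Multiplicative.ofAdd (Multiplicative.toAdd z • a), Multiplicative.toAdd.injective ?_⟩
    show w' (Multiplicative.toAdd z • a) / c = Multiplicative.toAdd z
    rw [map_zsmul, ha, smul_eq_mul, Int.mul_ediv_cancel _ hc0]
  · refine Multiplicative.toAdd.injective ?_
    show w' (Multiplicative.toAdd ((g : MulAut (Lat n)) m)) / c = w' (Multiplicative.toAdd m) / c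
    rw [← hw', ← hw', hinv]

/-- The coordinate functionals. -/
def coordHom (i : Fin n) : Lat n →* Multiplicative ℤ := AddMonoidHom.toMultiplicative (Pi.evalAddMonoidHom _ i)

theorem hom_ext_basis {X : Type*} [CommMonoid X] {f g : Lat n →* X}
    (h : ∀ i, f (Multiplicative.ofAdd (Pi.single i 1)) = g (Multiplicative.ofAdd (Pi.single i 1))) : f = g := by
  refine MonoidHom.toAdditiveRight.injective (AddMonoidHom.functions_ext' _ _ _ fun i => AddMonoidHom.ext_int ?_)
  exact congrArg Additive.ofMul (h i)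

variable {F : Type u} [Field F]

/-- An invariant character with values in the roots of unity is killed by the order of the group, unless there is an
invariant surjective functional. -/
theorem pow_card_eq_one (haniso : ∀ v : Lat n →* Multiplicative ℤ,
      (∀ (g : G) m, v ((g : MulAut (Lat n)) m) = v m) → v = 1)
    (χ : Lat n →* F) (hinv : ∀ (g : G) m, χ ((g : MulAut (Lat n)) m) = χ m) (d : ℕ) [NeZero d] (hd : χ ^ d = 1) :
    χ ^ Fintype.card G = 1 := by
  let χ' : Lat n →* rootsOfUnity d F := MonoidHom.codRestrict χ.toHomUnits (rootsOfUnity d F) fun m => by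
    rw [mem_rootsOfUnity, Units.ext_iff]
    simpa using DFunLike.congr_fun hd m
  obtain ⟨ξ, hξ⟩ := IsCyclic.exists_generator (α := rootsOfUnity d F)
  choose k hk using fun i => Subgroup.mem_zpowers_iff.1 (hξ (χ' (Multiplicative.ofAdd (Pi.single i 1))))
  let v : Lat n →* Multiplicative ℤ := AddMonoidHom.toMultiplicative (∑ i, k i • Pi.evalAddMonoidHom (fun _ => ℤ) i)
  have hv : χ' = (zpowersHom (rootsOfUnity d F) ξ).comp v := by
    refine hom_ext_basis fun i => ?_
    rw [← hk i]
    simp [v, Pi.single_apply]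
  refine MonoidHom.ext fun m => ?_
  have h1 : avg G v m = 1 := by rw [haniso _ (avg_invariant G v)]; rfl
  rw [avg_apply] at h1
  have h2 : ∏ g : G, χ' ((g : MulAut (Lat n)) m) = 1 := by
    simp only [hv, MonoidHom.comp_apply]
    rw [← map_prod, h1, map_one]
  have h3 := congrArg (fun z : rootsOfUnity d F => ((z : Fˣ) : F)) h2
  simp only [SubmonoidClass.coe_finsetProd, Units.coe_prod, OneMemClass.coe_one, Units.val_one] at h3
  rw [MonoidHom.pow_apply, MonoidHom.one_apply, ← h3, show (fun g : G => ((χ' ((g : MulAut (Lat n)) m) : Fˣ) : F)) =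
    fun _ => χ m from funext fun g => hinv g m, Finset.prod_const, Finset.card_univ]

/-- With no invariant functional the sum of the matrices vanishes. -/
theorem sum_matHom_eq_zero (haniso : ∀ v : Lat n →* Multiplicative ℤ,
      (∀ (g : G) m, v ((g : MulAut (Lat n)) m) = v m) → v = 1) :
    ∑ g : G, (matHom n (g : MulAut (Lat n)) : Matrix (Fin n) (Fin n) ℤ) = 0 := by
  ext i j
  have h := congrArg Multiplicative.toAdd
    (DFunLike.congr_fun (haniso _ (avg_invariant G (coordHom i))) (Multiplicative.ofAdd (Pi.single j 1)))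
  rw [avg_apply, toAdd_prod] at h
  rw [Matrix.sum_apply, Matrix.zero_apply]
  refine Eq.trans (Finset.sum_congr rfl fun g _ => ?_) h
  have h' := congrFun (matHom_mulVec (g : MulAut (Lat n)) (Pi.single j 1)) i
  rw [Matrix.mulVec_single_one] at h'
  exact h'

/-- A matrix of finite order with `g² = s g - δ` has small trace. -/
theorem trace_bound {g : Matrix (Fin 2) (Fin 2) ℤ} {s δ : ℤ} {k : ℕ} (hk : 0 < k) (hg : g ^ k = 1)
    (htr : g.trace = s) (hdet : g.det = δ) (hs : 1 ≤ s) (hδ : δ = 1 ∨ δ = -1) : δ = 1 ∧ s ≤ 2 := by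
  have hch : g * g = s • g - δ • (1 : Matrix (Fin 2) (Fin 2) ℤ) := by
    subst htr; subst hdet
    ext i j
    fin_cases i <;> fin_cases j <;>
      simp only [Matrix.mul_apply, Fin.sum_univ_two, Matrix.trace_fin_two, Matrix.det_fin_two, Matrix.smul_apply,
        Matrix.sub_apply, smul_eq_mul, Matrix.one_apply] <;> simp <;> ring
  by_contra hcon
  have hs3 : δ = 1 → 3 ≤ s := fun h => by by_contra h'; exact hcon ⟨h, by omega⟩
  have key : ∀ m : ℕ, 0 < m → ∃ a b : ℤ, g ^ m = a • g + b • (1 : Matrix (Fin 2) (Fin 2) ℤ) ∧ 0 < a ∧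
      (δ = 1 → 0 ≤ a + b) ∧ (δ = -1 → 0 ≤ b) := by
    intro m hm
    induction m, hm using Nat.le_induction with
    | base => exact ⟨1, 0, by simp, by omega, by omega, by omega⟩
    | succ m hm ih =>
      obtain ⟨a, b, e, ha, hab, hb⟩ := ih
      refine ⟨a * s + b, -(a * δ), ?_, ?_, fun h => ?_, fun h => ?_⟩
      · rw [pow_succ, e, add_mul, smul_mul_assoc, smul_mul_assoc, hch, _root_.one_mul, smul_sub, smul_smul, smul_smul]
        module
      · rcases hδ with h | h
        · nlinarith [hs3 h, hab h]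
        · nlinarith [hb h]
      · subst h; nlinarith [hs3 rfl, hab rfl]
      · subst h; omega
  obtain ⟨a, b, e, ha, -, -⟩ := key k hk
  rw [hg] at e
  have h01 := congrFun (congrFun e 0) 1
  have h10 := congrFun (congrFun e 1) 0
  have h00 := congrFun (congrFun e 0) 0
  have h11 := congrFun (congrFun e 1) 1
  simp only [Matrix.smul_apply, Matrix.add_apply, smul_eq_mul, Matrix.one_apply] at h01 h10 h00 h11
  simp at h01 h10 h00 h11
  have hg01 : g 0 1 = 0 := by rcases h01 with h | h; exacts [absurd h ha.ne', h]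
  have hg11 : g 1 1 = g 0 0 := mul_left_cancel₀ ha.ne' (by linarith)
  have hd : g 0 0 * g 0 0 = δ := by rw [← hdet, Matrix.det_fin_two, hg01, hg11]; ring
  have ht : 2 * g 0 0 = s := by rw [← htr, Matrix.trace_fin_two, hg11]; ring
  rcases hδ with h | h
  · nlinarith [hs3 h]
  · nlinarith [sq_nonneg (g 0 0)]

end Groth.Agent.TorusField
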