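import Groth.Agent.TorusField.Bridge
import Groth.Agent.TorusField.Cochar
import Groth.Agent.TorusField.Galois
import Groth.Agent.TorusField.Lattice
/-!
Rational torsion points of tori without a split subtorus.
-/

set_option autoImplicit false
set_option linter.style.haveILetI false
set_option linter.unusedSectionVars false

universe u

open CategoryTheory MonoidalCategory CartesianMonoidalCategory MonObj GrpObj AlgebraicGeometry
open TensorProduct WithConv Polynomial
open scoped TensorProduct Matrix

noncomputable section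

namespace Groth.Agent.TorusField

/-- When `X ^ d - 1` splits over the small field its roots in the big one are rational. -/
theorem mem_range_of_splits {K L : Type u} [Field K] [Field L] [Algebra K L] {d : ℕ} (hd : 0 < d)
    (hK : (X ^ d - 1 : K[X]).Splits) (z : L) (hz : z ^ d = 1) : z ∈ (algebraMap K L).range := by
  have hne : (X ^ d - 1 : K[X]).map (algebraMap K L) ≠ 0 :=
    (Polynomial.map_ne_zero_iff (algebraMap K L).injective).2 (X_pow_sub_C_ne_zero hd 1)
  have hroot : z ∈ ((X ^ d - 1 : K[X]).map (algebraMap K L)).roots := by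
    rw [mem_roots hne]
    simp [hz]
  rw [hK.roots_map] at hroot
  obtain ⟨r, -, hr⟩ := Multiset.mem_map.1 hroot
  exact ⟨r, hr⟩

/-- A primitive root makes all the roots rational. -/
theorem mem_range_of_primitive {K L : Type u} [Field K] [Field L] [Algebra K L] {d : ℕ} [NeZero d] {ζ : K}
    (hζ : IsPrimitiveRoot ζ d) (z : L) (hz : z ^ d = 1) : z ∈ (algebraMap K L).range := by
  obtain ⟨i, -, hi⟩ := (hζ.map_of_injective (algebraMap K L).injective).eq_pow_of_pow_eq_one hz
  exact ⟨ζ ^ i, by rw [map_pow, hi]⟩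

/-- A torus presented by a split Hopf algebra. -/
theorem exists_torus_data {K : Type u} [Field K] (n : ℕ) (T : Over (Spec (CommRingCat.of K))) [GrpObj T]
    (hT : ∃ (L : Type u) (_ : Field L) (_ : Algebra K L),
      Red.IsSplitTorusWith (Fin n → ℤ) (Red.bc (Spec.map (CommRingCat.ofHom (algebraMap K L))) T)) :
    ∃ (A : Type u) (_ : CommRing A) (_ : HopfAlgebra K A) (L : Type u) (_ : Field L) (_ : Algebra K L)
      (_ : FiniteDimensional K L) (_ : IsGalois K L),
      Nonempty (specGrp K A ≅ Grp.mk T) ∧ Nonempty (L ⊗[K] A ≃ₐc[L] MonoidAlgebra L (Lat n)) := by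
  obtain ⟨L₀, _, _, h⟩ := hT
  obtain ⟨A, _, _, hA, ⟨e⟩⟩ := exists_hopf_split K T h
  obtain ⟨L, _, _, _, _, hL⟩ := exists_galois_split e
  exact ⟨A, inferInstance, inferInstance, L, inferInstance, inferInstance, inferInstance, inferInstance, hA, hL⟩

variable {K : Type u} [Field K] {L : Type u} [Field L] [Algebra K L] [FiniteDimensional K L] [IsGalois K L]
  {A : Type u} [CommRing A] [HopfAlgebra K A] {n : ℕ}

instance (e : L ⊗[K] A ≃ₐc[L] MonoidAlgebra L (Lat n)) : Fintype (rho e).range := by
  haveI : Finite (rho e).range := Finite.of_surjective _ (rho e).rangeRestrict_surjective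
  exact Fintype.ofFinite _

variable (e : L ⊗[K] A ≃ₐc[L] MonoidAlgebra L (Lat n))

/-- The image of the Galois group in `GL_n(ℤ)`. -/
abbrev galImage : Subgroup (Matrix.GeneralLinearGroup (Fin n) ℤ) := (rho e).range.map (matHom n)

theorem finite_galImage : Finite (galImage e) :=
  Finite.of_equiv _ ((rho e).range.equivMapOfInjective (matHom n) matHom_injective).toEquiv

theorem card_galImage : Nat.card (galImage e) = Fintype.card (rho e).range := by
  rw [Subgroup.card_map_of_injective matHom_injective, Nat.card_eq_fintype_card]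

/-- Without a subgroup `𝔾ₘ` there is no invariant functional. -/
theorem eq_one_of_aniso {T : Over (Spec (CommRingCat.of K))} [GrpObj T] (eA : specGrp K A ≅ Grp.mk T)
    (haniso : ¬ ∃ i : Red.Gm (Spec (CommRingCat.of K)) ⟶ T, IsMonHom i ∧ Mono i)
    (v : Lat n →* Multiplicative ℤ) (hv : ∀ (g : (rho e).range) m, v ((g : MulAut (Lat n)) m) = v m) : v = 1 := by
  by_contra hne
  obtain ⟨w, hw, hwinv⟩ := exists_surjective_invariant (rho e).range v hne hv
  obtain ⟨φ, hφ⟩ := exists_cochar e w hw fun σ m => hwinv ⟨rho e σ, σ, rfl⟩ m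
  exact haniso (exists_gm K eA φ hφ)

/-- The characters of a torsion point with rational roots of unity are invariant. -/
theorem char_range_invariant {d : ℕ} (hroots : ∀ z : L, z ^ d = 1 → z ∈ (algebraMap K L).range)
    {x : WithConv (A →ₐ[K] K)} (hx : x ^ d = 1) (g : (rho e).range) (m : Lat n) :
    char e x.ofConv ((g : MulAut (Lat n)) m) = char e x.ofConv m := by
  obtain ⟨_, σ, rfl⟩ := g
  exact char_invariant e hroots hx σ m

/-- Torsion points are killed by the order of the Galois image. -/
theorem pow_card_eq_one' (haniso : ∀ v : Lat n →* Multiplicative ℤ,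
      (∀ (g : (rho e).range) m, v ((g : MulAut (Lat n)) m) = v m) → v = 1)
    {d : ℕ} [NeZero d] (hroots : ∀ z : L, z ^ d = 1 → z ∈ (algebraMap K L).range)
    {x : WithConv (A →ₐ[K] K)} (hx : x ^ d = 1) : x ^ Fintype.card (rho e).range = 1 := by
  apply ofConv_injective
  apply char_injective e
  rw [char_pow, char_one]
  exact pow_card_eq_one _ haniso _ (char_range_invariant e hroots hx) d (by rw [← char_pow, hx, char_one])

/-- No torsion of order the characteristic. -/
theorem cast_orderOf_ne_zero {x : WithConv (A →ₐ[K] K)} (hx : IsOfFinOrder x)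
    (e : L ⊗[K] A ≃ₐc[L] MonoidAlgebra L (Lat n)) : ((orderOf x : ℕ) : K) ≠ 0 := by
  intro h0
  obtain ⟨p, hp⟩ := CharP.exists K
  have hdvd : p ∣ orderOf x := (CharP.cast_eq_zero_iff K p _).1 h0
  have hp0 : p ≠ 0 := fun h => hx.orderOf_pos.ne' (zero_dvd_iff.1 (h ▸ hdvd))
  haveI : Fact p.Prime := ⟨(CharP.char_is_prime_or_zero K p).resolve_right hp0⟩
  haveI : CharP L p := charP_of_injective_algebraMap (algebraMap K L).injective p
  haveI : ExpChar L p := ExpChar.prime Fact.out
  obtain ⟨q, hq⟩ := hdvd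
  have hy : (x ^ q) ^ p = 1 := by rw [← pow_mul, mul_comm q, ← hq, pow_orderOf_eq_one]
  have hq1 : x ^ q = 1 := by
    refine ofConv_injective (char_injective e (MonoidHom.ext fun m => frobenius_inj L p ?_))
    rw [frobenius_def, frobenius_def, ← MonoidHom.pow_apply, ← MonoidHom.pow_apply, ← char_pow, ← char_pow, hy, one_pow]
  have hle : orderOf x ≤ q := Nat.le_of_dvd
    (Nat.pos_of_ne_zero fun h => hx.orderOf_pos.ne' (by rw [hq, h, mul_zero])) (orderOf_dvd_of_pow_eq_one hq1)
  have h1 := (Fact.out : p.Prime).two_le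
  have h2 : 0 < q := Nat.pos_of_ne_zero fun h => hx.orderOf_pos.ne' (by rw [hq, h, mul_zero])
  nlinarith

/-- A finite group of points killed by `h` has at most `h ^ n` elements. -/
theorem card_le_pow (e : L ⊗[K] A ≃ₐc[L] MonoidAlgebra L (Lat n)) {h : ℕ} [NeZero h] {P : Type u} [Group P]
    (ψ : WithConv (A →ₐ[K] K) ≃* P) (hψ : ∀ y : WithConv (A →ₐ[K] K), IsOfFinOrder y → y ^ h = 1) (G : Subgroup P) [Finite G] :
    Nat.card G ≤ h ^ n := by
  have hu : ∀ (x : G) (m : Lat n), char e (ψ.symm (x : P)).ofConv m ^ h = 1 := fun x m => by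
    rw [← MonoidHom.pow_apply, ← char_pow,
      hψ (ψ.symm (x : P)) ((ψ.symm.toMonoidHom.comp G.subtype).isOfFinOrder (isOfFinOrder_of_finite x)), char_one,
      MonoidHom.one_apply]
  let f : G → Fin n → rootsOfUnity h L := fun x i => rootsOfUnity.mkOfPowEq _ (hu x (Multiplicative.ofAdd (Pi.single i 1)))
  have hf : Function.Injective f := fun x y hxy => Subtype.ext (ψ.symm.injective (ofConv_injective (char_injective e
    (hom_ext_basis fun i => congrArg (fun z : rootsOfUnity h L => ((z : Lˣ) : L)) (congrFun hxy i)))))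
  refine (Nat.card_le_card_of_injective f hf).trans ?_
  rw [Nat.card_fun, Nat.card_fin]
  exact Nat.pow_le_pow_left (card_rootsOfUnity L h) n

/-- In rank two an anisotropic torus has torsion of exponent three or four. -/
theorem exists_exponent_two (e : L ⊗[K] A ≃ₐc[L] MonoidAlgebra L (Lat 2)) (haniso : ∀ v : Lat 2 →* Multiplicative ℤ,
      (∀ (g : (rho e).range) m, v ((g : MulAut (Lat 2)) m) = v m) → v = 1) :
    ∃ h : ℕ, 0 < h ∧ h ≤ 4 ∧ ∀ {d : ℕ}, 0 < d → (∀ z : L, z ^ d = 1 → z ∈ (algebraMap K L).range) →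
      ∀ {x : WithConv (A →ₐ[K] K)}, x ^ d = 1 → x ^ h = 1 := by
  classical
  have hsum := congrArg Matrix.trace (sum_matHom_eq_zero (rho e).range haniso)
  rw [Matrix.trace_sum, Matrix.trace_zero] at hsum
  have hone : (matHom 2 ((1 : (rho e).range) : MulAut (Lat 2)) : Matrix (Fin 2) (Fin 2) ℤ).trace = 2 := by
    simp [Matrix.trace_one]
  obtain ⟨g, hg⟩ : ∃ g : (rho e).range, (matHom 2 (g : MulAut (Lat 2)) : Matrix (Fin 2) (Fin 2) ℤ).trace < 0 := by
    by_contra hall
    simp only [not_exists, not_lt] at hall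
    have := Finset.single_le_sum (fun g _ => hall g) (Finset.mem_univ (1 : (rho e).range))
    rw [hsum, hone] at this
    omega
  set N : Matrix (Fin 2) (Fin 2) ℤ := ↑(matHom 2 (g : MulAut (Lat 2))) with hN
  have hk : (-N) ^ (2 * Fintype.card (rho e).range) = 1 := by
    rw [Even.neg_pow (even_two_mul _), mul_comm, pow_mul, hN, ← Units.val_pow_eq_pow_val, ← map_pow,
      ← SubgroupClass.coe_pow, _root_.pow_card_eq_one]
    simp
  have hdu : IsUnit N.det := (Matrix.isUnit_iff_isUnit_det N).1 ⟨matHom 2 (g : MulAut (Lat 2)), rfl⟩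
  obtain ⟨hδ, hs⟩ := trace_bound (s := -N.trace) (δ := N.det) (g := -N)
    (Nat.mul_pos two_pos Fintype.card_pos) hk (by rw [Matrix.trace_neg]) (by simp [Matrix.det_neg]) (by omega)
    (Int.isUnit_iff.1 hdu)
  obtain ⟨s, hs'⟩ : ∃ s : ℕ, -N.trace = s := Int.eq_ofNat_of_zero_le (by omega)
  refine ⟨2 + s, by omega, by omega, fun {d} hd hroots {x} hx => ?_⟩
  apply ofConv_injective
  apply char_injective e
  rw [char_pow, char_one]
  refine MonoidHom.ext fun m => ?_
  have hch : N * N = N.trace • N - N.det • (1 : Matrix (Fin 2) (Fin 2) ℤ) := by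
    ext i j
    fin_cases i <;> fin_cases j <;>
      simp only [Matrix.mul_apply, Fin.sum_univ_two, Matrix.trace_fin_two, Matrix.det_fin_two, Matrix.smul_apply,
        Matrix.sub_apply, smul_eq_mul, Matrix.one_apply] <;> simp <;> ring
  have hrel : (g : MulAut (Lat 2)) ((g : MulAut (Lat 2)) m) * (g : MulAut (Lat 2)) m ^ s * m = 1 := by
    refine Multiplicative.toAdd.injective ?_
    have ev : ∀ a : Lat 2, Multiplicative.toAdd ((g : MulAut (Lat 2)) a) = N *ᵥ Multiplicative.toAdd a :=
      fun a => (matHom_mulVec (g : MulAut (Lat 2)) (Multiplicative.toAdd a)).symm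
    rw [toAdd_mul, toAdd_mul, toAdd_pow, ev, ev, Matrix.mulVec_mulVec, toAdd_one, hch, hδ, one_zsmul,
      Matrix.sub_mulVec, Matrix.one_mulVec, Matrix.smul_mulVec, show N.trace = -(s : ℤ) by omega, neg_zsmul,
      natCast_zsmul]
    abel
  have h' := congrArg (char e x.ofConv) hrel
  rw [map_mul, map_mul, map_pow, map_one, char_range_invariant e hroots hx, char_range_invariant e hroots hx] at h'
  rw [MonoidHom.pow_apply, MonoidHom.one_apply, ← h', show 2 + s = 1 + s + 1 by omega, pow_add, pow_add, pow_one]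

end Groth.Agent.TorusField
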