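import Groth.Agent.MultType.Field
import Groth.Agent.MultType.Connected
import Groth.Agent.MultType.BaseChange
/-!
The Galois action on the characters of a group which is split by a Galois extension.
-/

set_option autoImplicit false
set_option linter.style.haveILetI false
set_option linter.unusedSectionVars false

universe u

open TensorProduct WithConv MonoidAlgebra
open scoped TensorProduct

noncomputable section

namespace Groth.Agent.TorusField

variable {K : Type u} [Field K] {L : Type u} [Field L] [Algebra K L] {A : Type u} [CommRing A] [HopfAlgebra K A]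
  {M : Type} [CommGroup M] (e : L ⊗[K] A ≃ₐc[L] MonoidAlgebra L M)

/-- The group-like element of a character. -/
def γ' : M →* L ⊗[K] A :=
  (((e.symm : MonoidAlgebra L M →ₐc[L] L ⊗[K] A) : MonoidAlgebra L M →ₐ[L] L ⊗[K] A).toMonoidHom).comp
    (MonoidAlgebra.of L M)

theorem γ'_apply (m : M) : γ' e m = e.symm (single m 1) := rfl

theorem isGroupLike_γ' (m : M) : IsGroupLikeElem L (γ' e m) :=
  (MonoidAlgebra.isGroupLikeElem_single_one m).map e.symm

theorem e_γ' (m : M) : e (γ' e m) = single m 1 := e.apply_symm_apply _

theorem γ'_injective : Function.Injective (γ' e) := fun a b h =>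
  single_left_injective (one_ne_zero (α := L)) ((e_γ' e a).symm.trans ((congrArg e h).trans (e_γ' e b)))

theorem exists_eq_γ' {x : L ⊗[K] A} (hx : IsGroupLikeElem L x) : ∃ m, x = γ' e m := by
  obtain ⟨m, hm⟩ := MonoidAlgebra.isGroupLikeElem_iff_mem_range_of.1 (hx.map e)
  exact ⟨m, EquivLike.injective e ((show e x = single m 1 from hm.symm).trans (e_γ' e m).symm)⟩

/-- The semilinear automorphism of the split coordinate ring. -/
def conj (σ : L ≃ₐ[K] L) : L ⊗[K] A →ₐ[K] L ⊗[K] A := Algebra.TensorProduct.map σ.toAlgHom (AlgHom.id K A)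

theorem conj_smul (σ : L ≃ₐ[K] L) (l : L) (z : L ⊗[K] A) : conj σ (l • z) = σ l • conj σ z := by
  induction z with
  | zero => simp
  | tmul a b => simp [conj, TensorProduct.smul_tmul']
  | add a b ha hb => simp only [smul_add, map_add, ha, hb]

theorem exists_aut (σ : L ≃ₐ[K] L) (m : M) : ∃ m', conj σ (γ' e m) = γ' e m' :=
  exists_eq_γ' e (MultType.isGroupLikeElem_map σ.toAlgHom (isGroupLike_γ' e m))

/-- The character moved by an automorphism. -/
def act (σ : L ≃ₐ[K] L) (m : M) : M := (exists_aut e σ m).choose

theorem conj_γ' (σ : L ≃ₐ[K] L) (m : M) : conj σ (γ' e m) = γ' e (act e σ m) := (exists_aut e σ m).choose_spec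

theorem conj_conj (σ τ : L ≃ₐ[K] L) (z : L ⊗[K] A) : conj (σ * τ) z = conj σ (conj τ z) := by
  induction z with
  | zero => simp
  | tmul a b => simp [conj]
  | add a b ha hb => simp only [map_add, ha, hb]

theorem act_mul (σ τ : L ≃ₐ[K] L) (m : M) : act e (σ * τ) m = act e σ (act e τ m) :=
  γ'_injective e (by rw [← conj_γ', conj_conj, conj_γ', conj_γ'])

theorem act_one (m : M) : act e 1 m = m := by
  refine γ'_injective e ?_
  rw [← conj_γ']
  generalize γ' e m = z
  induction z with
  | zero => simp
  | tmul a b => simp [conj]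
  | add a b ha hb => simp only [map_add, ha, hb]

/-- The Galois action on the characters. -/
def rho : (L ≃ₐ[K] L) →* MulAut M where
  toFun σ :=
    { toFun := act e σ
      invFun := act e σ⁻¹
      left_inv := fun m => by rw [← act_mul, inv_mul_cancel, act_one]
      right_inv := fun m => by rw [← act_mul, mul_inv_cancel, act_one]
      map_mul' := fun a b => γ'_injective e (by rw [← conj_γ', map_mul, map_mul, map_mul, conj_γ', conj_γ']) }
  map_one' := MulEquiv.ext (act_one e)
  map_mul' σ τ := MulEquiv.ext (act_mul e σ τ)

@[simp] theorem rho_apply (σ : L ≃ₐ[K] L) (m : M) : rho e σ m = act e σ m := rfl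

/-- The group-likes span. -/
theorem induction_γ' {P : L ⊗[K] A → Prop} (h0 : P 0) (hadd : ∀ x y, P x → P y → P (x + y))
    (hγ : ∀ (l : L) m, P (l • γ' e m)) (z : L ⊗[K] A) : P z := by
  obtain ⟨w, rfl⟩ := EquivLike.surjective e.symm z
  induction w using MonoidAlgebra.induction_linear with
  | zero => rwa [map_zero]
  | add p q hp hq => rw [map_add]; exact hadd _ _ hp hq
  | single m l =>
    rw [show (single m l : MonoidAlgebra L M) = l • single m 1 by simp, map_smul]
    exact hγ l m

/-- The extension of a point. -/
def extPt (x : A →ₐ[K] K) : L ⊗[K] A →ₐ[L] L :=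
  Algebra.TensorProduct.lift (AlgHom.id L L) ((Algebra.ofId K L).comp x) fun _ _ => Commute.all _ _

/-- The character of a point. -/
def char (x : A →ₐ[K] K) : M →* L := ((extPt x).toMonoidHom).comp (γ' e)

theorem char_apply (x : A →ₐ[K] K) (m : M) : char e x m = extPt x (γ' e m) := rfl

theorem extPt_conv (x y : WithConv (A →ₐ[K] K)) (z : L ⊗[K] A) :
    extPt (x * y).ofConv z = (toConv (extPt x.ofConv) * toConv (extPt (L := L) y.ofConv)).ofConv z := by
  induction z with
  | zero => simp
  | add a b ha hb => simp only [map_add, ha, hb]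
  | tmul l a =>
    rw [AlgHom.convMul_apply, TensorProduct.comul_tmul, CommSemiring.comul_apply]
    show l * algebraMap K L ((x * y).ofConv a) = _
    rw [AlgHom.convMul_apply]
    induction Coalgebra.comul (R := K) a with
    | zero => simp
    | add p q hp hq => simp only [map_add, TensorProduct.tmul_add, mul_add, hp, hq]
    | tmul p q =>
      rw [TensorProduct.AlgebraTensorModule.tensorTensorTensorComm_tmul]
      simp [extPt, mul_comm, mul_assoc, mul_left_comm]

theorem char_mul (x y : WithConv (A →ₐ[K] K)) : char e (x * y).ofConv = char e x.ofConv * char e y.ofConv := by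
  refine MonoidHom.ext fun m => ?_
  rw [char_apply, extPt_conv, AlgHom.convMul_apply, (isGroupLike_γ' e m).comul_eq_tmul_self]
  simp [char_apply]

theorem char_one : char e (1 : WithConv (A →ₐ[K] K)).ofConv = 1 := by
  refine MonoidHom.ext fun m => ?_
  rw [char_apply, MonoidHom.one_apply]
  refine Eq.trans ?_ (isGroupLike_γ' e m).counit_eq_one
  generalize γ' e m = z
  induction z with
  | zero => simp
  | tmul l a => simp [extPt, AlgHom.convOne_apply, Algebra.smul_def, mul_comm]
  | add a b ha hb => simp only [map_add, ha, hb]

theorem char_pow (x : WithConv (A →ₐ[K] K)) (d : ℕ) : char e (x ^ d).ofConv = char e x.ofConv ^ d := by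
  induction d with
  | zero => rw [pow_zero, pow_zero, char_one]
  | succ d ih => rw [pow_succ, pow_succ, char_mul, ih]

theorem char_injective : Function.Injective (char e) := fun x y h => by
  have h' : ∀ z : L ⊗[K] A, extPt x z = extPt y z := fun z => by
    induction z using induction_γ' e with
    | h0 => simp
    | hadd a b ha hb => simp only [map_add, ha, hb]
    | hγ l m => rw [map_smul, map_smul, ← char_apply, ← char_apply, h]
  refine AlgHom.ext fun a => (algebraMap K L).injective ?_
  simpa [extPt] using h' ((1 : L) ⊗ₜ a)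

theorem char_act (x : A →ₐ[K] K) (σ : L ≃ₐ[K] L) (m : M) : σ (char e x m) = char e x (act e σ m) := by
  rw [char_apply, char_apply, ← conj_γ']
  generalize γ' e m = z
  induction z with
  | zero => simp
  | tmul l a => simp [extPt, conj]
  | add a b ha hb => simp only [map_add, ha, hb]

/-- Points of order dividing `d` have invariant characters when the roots of unity are rational. -/
theorem char_invariant {d : ℕ} (hroots : ∀ z : L, z ^ d = 1 → z ∈ (algebraMap K L).range)
    {x : WithConv (A →ₐ[K] K)} (hx : x ^ d = 1) (σ : L ≃ₐ[K] L) (m : M) :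
    char e x.ofConv (act e σ m) = char e x.ofConv m := by
  obtain ⟨r, hr⟩ := hroots (char e x.ofConv m) (by
    rw [← MonoidHom.pow_apply, ← char_pow, hx, char_one, MonoidHom.one_apply])
  rw [← char_act, ← hr, σ.commutes]

end Groth.Agent.TorusField
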